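import Groth.Prelude.Def_W4c2seshadriposJets
import Groth.Agent.L17.IdealMulSec
import Groth.Agent.L21.RR.Sections

/-!
# Separation of jets in terms of the stalk
-/

set_option autoImplicit false
set_option linter.style.haveILetI false
set_option linter.unusedSectionVars false
set_option backward.isDefEq.respectTransparency false
set_option backward.isDefEq.respectTransparency.types false

universe u

open CategoryTheory CategoryTheory.Limits AlgebraicGeometry TopologicalSpace Opposite IsLocalRing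
open Groth.L21.RR (e0 e0_hmap)

noncomputable section

namespace Groth.L16.Jets

variable {X : Scheme.{u}} {x : X} (hx : IsClosed ({x} : Set X))

/-- The ideal of the point on an affine neighbourhood extends to the maximal ideal. -/
theorem map_pointIdeal {U : X.Opens} (hU : IsAffineOpen U) (hxU : x ∈ U) :
    ((W4c2seshadripos.pointIdeal x hx).ideal ⟨U, hU⟩).map (X.presheaf.germ U x hxU).hom =
      maximalIdeal (X.presheaf.stalk x) := by
  have h : hU.fromSpec ⁻¹' ({x} : Set X) = {hU.primeIdealOf ⟨x, hxU⟩} := by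
    ext p
    simp only [Set.mem_preimage, Set.mem_singleton_iff]
    refine ⟨fun hp => hU.fromSpec.isOpenEmbedding.injective ?_, fun hp => ?_⟩
    · rw [hp, hU.fromSpec_primeIdealOf]
    · rw [hp, hU.fromSpec_primeIdealOf]
  have hi : (W4c2seshadripos.pointIdeal x hx).ideal ⟨U, hU⟩ = (hU.primeIdealOf ⟨x, hxU⟩).asIdeal := by
    show PrimeSpectrum.vanishingIdeal (hU.fromSpec ⁻¹' ({x} : Set X)) = _
    rw [h, PrimeSpectrum.vanishingIdeal_singleton]
  rw [hi]
  letI : Algebra Γ(X, U) (X.presheaf.stalk x) := (X.presheaf.germ U x hxU).hom.toAlgebra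
  haveI := hU.isLocalization_stalk ⟨x, hxU⟩
  exact IsLocalization.AtPrime.map_eq_maximalIdeal (hU.primeIdealOf ⟨x, hxU⟩).asIdeal _

theorem support_pow_succ (I : X.IdealSheafData) : ∀ n : ℕ, ((I ^ (n + 1)).support : Set X) = I.support
  | 0 => by rw [pow_one]
  | n + 1 => by rw [pow_succ, Scheme.IdealSheafData.support_mul, Closeds.coe_sup, support_pow_succ I n, Set.union_self]

theorem range_eq (l : ℕ) :
    Set.range ((W4c2seshadripos.pointIdeal x hx) ^ (l + 1)).subschemeι = ({x} : Set X) := by
  rw [Scheme.IdealSheafData.range_subschemeι, support_pow_succ]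
  exact Scheme.IdealSheafData.coe_support_vanishingIdeal _

/-- The germ at the point of the kernel on stalks. -/
theorem ker_stalkMap (l : ℕ) (z : ((W4c2seshadripos.pointIdeal x hx) ^ (l + 1)).subscheme)
    (r : X.presheaf.stalk (((W4c2seshadripos.pointIdeal x hx) ^ (l + 1)).subschemeι z)) :
    (((W4c2seshadripos.pointIdeal x hx) ^ (l + 1)).subschemeι.stalkMap z).hom r = 0 ↔
      r ∈ maximalIdeal (X.presheaf.stalk (((W4c2seshadripos.pointIdeal x hx) ^ (l + 1)).subschemeι z)) ^ (l + 1) := by
  let J := (W4c2seshadripos.pointIdeal x hx) ^ (l + 1)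
  have hz : J.subschemeι z = x := (range_eq hx l).le ⟨z, rfl⟩
  obtain ⟨_, ⟨U, hU, rfl⟩, hxU, -⟩ := X.isBasis_affineOpens.exists_subset_of_mem_open (Set.mem_univ x) isOpen_univ
  have hzU : J.subschemeι z ∈ U := by rw [hz]; exact hxU
  have key : ∀ y : X, y = x → ∀ hy : y ∈ U,
      (J.ideal ⟨U, hU⟩).map (X.presheaf.germ U y hy).hom = maximalIdeal (X.presheaf.stalk y) ^ (l + 1) := by
    rintro y rfl hy
    rw [Scheme.IdealSheafData.ideal_pow, Pi.pow_apply, Ideal.map_pow, map_pointIdeal hx hU hy]
  rw [← key _ hz hzU]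
  refine ⟨Groth.L17.IdealMulSec.mem_map_of_stalkMap_eq_zero J hU z hzU r, fun hr => ?_⟩
  have hle : (J.ideal ⟨U, hU⟩).map (X.presheaf.germ U (J.subschemeι z) hzU).hom ≤
      RingHom.ker (J.subschemeι.stalkMap z).hom := by
    refine Ideal.map_le_iff_le_comap.2 fun a ha => ?_
    rw [← J.ker_subschemeι_app ⟨U, hU⟩, RingHom.mem_ker] at ha
    rw [Ideal.mem_comap, RingHom.mem_ker]
    refine (Scheme.Hom.germ_stalkMap_apply J.subschemeι U z hzU a).trans ?_
    rw [ha, map_zero]
  exact hle hr

/-- The germ at the point detects the jets. -/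
theorem separatesJets_iff (F : X.Modules) (l : ℕ) :
    W4c2seshadripos.SeparatesJets F x hx l ↔
      ∀ v : F.presheaf.stalk x, ∃ s : Γ(F, ⊤), F.presheaf.germ ⊤ x trivial s - v ∈
        maximalIdeal (X.presheaf.stalk x) ^ (l + 1) • (⊤ : Submodule (X.presheaf.stalk x) (F.presheaf.stalk x)) := by
  let J := (W4c2seshadripos.pointIdeal x hx) ^ (l + 1)
  let i := J.subschemeι
  let η := (Scheme.Modules.pullbackPushforwardAdjunction i).unit.app F
  have hres : ∀ s, W4c2seshadripos.resH J F s = Groth.L16.CohLinear.hmap η 0 s := fun _ => rfl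
  obtain ⟨z, hz⟩ : ∃ z, i z = x := (range_eq hx l).ge rfl
  haveI : Subsingleton J.subscheme := ⟨fun a b => i.isClosedEmbedding.injective
    (((range_eq hx l).le ⟨a, rfl⟩).trans ((range_eq hx l).le ⟨b, rfl⟩).symm)⟩
  let Q : X → Prop := fun y => ∀ v : F.presheaf.stalk y, ∃ s : Γ(F, ⊤), F.presheaf.germ ⊤ y trivial s - v ∈
    maximalIdeal (X.presheaf.stalk y) ^ (l + 1) • (⊤ : Submodule (X.presheaf.stalk y) (F.presheaf.stalk y))
  show _ ↔ Q x
  rw [← congrArg Q hz]
  letI := (Groth.L00.PullStalk.φ i z).toAlgebra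
  let S := J.subscheme.presheaf.stalk z
  let R := X.presheaf.stalk (i z)
  let P := (Scheme.Modules.pullback i).obj F
  let σ := ((Groth.L00.PullStalk.stalkIso i z).hom.app F)
  let u := (ModuleCat.extendRestrictScalarsAdj (Groth.L00.PullStalk.φ i z)).unit.app
    ((Groth.L00.Stk.F X (i z)).obj F)
  -- the value of a global section of the pullback at the point
  let g : Γ(P, ⊤) → ↑((ModuleCat.extendScalars (Groth.L00.PullStalk.φ i z)).obj ((Groth.L00.Stk.F X (i z)).obj F)) :=
    fun q => σ (P.presheaf.germ ⊤ z trivial q)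
  have hσ : Function.Bijective σ :=
    (ConcreteCategory.isIso_iff_bijective σ).1 inferInstance
  have hg : Function.Bijective g := by
    refine hσ.comp ?_
    constructor
    · intro a b hab
      obtain ⟨W, hzW, iU, iV, heq⟩ := TopCat.Presheaf.germ_eq P.presheaf (U := ⊤) (V := ⊤) z trivial trivial a b hab
      have hW : W = ⊤ := top_le_iff.1 fun y _ => by rw [Subsingleton.elim y z]; exact hzW
      subst hW
      have h1 : iU = 𝟙 _ := Subsingleton.elim _ _
      have h2 : iV = 𝟙 _ := Subsingleton.elim _ _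
      subst h1 h2
      simpa using heq
    · intro t
      obtain ⟨W, hzW, q, hq⟩ := TopCat.Presheaf.exists_germ_eq (F := P.presheaf) (x := z) t
      have hW : W = ⊤ := top_le_iff.1 fun y _ => by rw [Subsingleton.elim y z]; exact hzW
      subst hW
      exact ⟨q, hq⟩
  have hgη : ∀ s : Γ(F, ⊤), g (η.app ⊤ s) = u (F.presheaf.germ ⊤ (i z) trivial s) := fun s =>
    Groth.L17.ClosedPush.stalkIso_unit_germ i F z (V := ⊤) trivial s
  have hker : ∀ a : F.presheaf.stalk (i z), u a = 0 ↔
      a ∈ maximalIdeal R ^ (l + 1) • (⊤ : Submodule R (F.presheaf.stalk (i z))) := by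
    intro a
    have hK : RingHom.ker (algebraMap R S) = maximalIdeal R ^ (l + 1) := Ideal.ext (ker_stalkMap hx l z)
    rw [← hK]
    refine ⟨fun h => Groth.L17.IdealMulSec.mem_smul_of_mk_one_eq_zero
      (Groth.L17.ClosedPush.φ_surjective i z) a h, fun h => ?_⟩
    induction h using Submodule.smul_induction_on' with
    | smul r hr n hn =>
      show TensorProduct.mk R S (F.presheaf.stalk (i z)) 1 (r • n) = 0
      rw [TensorProduct.mk_apply, TensorProduct.tmul_smul, TensorProduct.smul_tmul', Algebra.smul_def,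
        RingHom.mem_ker.1 hr, zero_mul, TensorProduct.zero_tmul]
    | add a _ b _ ha hb => exact (map_add _ a b).trans ((congrArg₂ (· + ·) ha hb).trans (add_zero _))
  let PX' := (Scheme.Modules.pushforward i).obj P
  have hη : ∀ s, e0 PX' (W4c2seshadripos.resH J F s) = η.app ⊤ (e0 F s) := fun s =>
    (congrArg (e0 PX') (hres s)).trans (e0_hmap η s)
  have huv : ∀ a b : F.presheaf.stalk (i z), u a = u b ↔ u (a - b) = 0 := fun a b =>
    sub_eq_zero.symm.trans (iff_of_eq (congrArg (· = 0) (map_sub _ a b).symm))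
  constructor
  · intro h v
    obtain ⟨q, hq⟩ := hg.2 (u v)
    obtain ⟨s, hs⟩ := h ((e0 PX').symm q)
    refine ⟨e0 F s, (hker _).1 ((huv _ _).1 ((hgη _).symm.trans (Eq.trans ?_ hq)))⟩
    exact congrArg g (((hη s).symm.trans (congrArg (e0 PX') hs)).trans ((e0 PX').apply_symm_apply q))
  · intro h t
    obtain ⟨v, hv⟩ := Groth.L17.ClosedPush.unit_extend_surjective i z _ (g (e0 PX' t))
    obtain ⟨s, hs⟩ := h v
    refine ⟨(e0 F).symm s, (e0 PX').injective ((hη _).trans (hg.1 ?_))⟩
    refine ((congrArg (fun b => g (η.app ⊤ b)) ((e0 F).apply_symm_apply s)).trans (hgη s)).trans ?_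
    exact ((huv _ _).2 ((hker _).2 hs)).trans hv

end Groth.L16.Jets
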