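import Groth.Agent.L16.Rees.FibreMonoEpi
import Groth.Agent.L29.DCoh.CokerLocFree
import Groth.Agent.L18.NegVanishField
import Groth.Agent.L20.UnivInj
import Groth.Agent.S9837

/-!
# Maps to locally free modules which are injective on the fibres
-/

set_option autoImplicit false
set_option linter.style.haveILetI false
set_option linter.unusedSectionVars false
set_option backward.isDefEq.respectTransparency false
set_option backward.isDefEq.respectTransparency.types false

universe u

open CategoryTheory CategoryTheory.Limits AlgebraicGeometry TopologicalSpace Opposite IsLocalRing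
open scoped TensorProduct

noncomputable section

namespace Groth.L16.FibreSplit

section Alg

variable {R : Type u} [CommRing R] [IsLocalRing R] {M N : Type u} [AddCommGroup M] [Module R M]
  [Module.Finite R M] [AddCommGroup N] [Module R N] [Module.Finite R N] [Module.Free R N] (v : M →ₗ[R] N)

/-- Injective on the residue field gives a splitting. -/
theorem exists_split (S : Type u) [CommRing S] [Algebra R S] (hs : Function.Surjective (algebraMap R S))
    (hker : RingHom.ker (algebraMap R S) = maximalIdeal R) (h : Function.Injective (v.baseChange S)) :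
    ∃ l : N →ₗ[R] M, l ∘ₗ v = LinearMap.id := by
  rw [IsLocalRing.split_injective_iff_lTensor_residueField_injective, Groth.L20.injective_lTensor_residueField_iff]
  intro a ha
  rw [← hker] at ha ⊢
  refine (Groth.L16.Rees.FibreMonoEpi.one_tmul_eq_zero_iff M hs a).1 (h ?_)
  rw [map_zero, LinearMap.baseChange_tmul]
  exact (Groth.L16.Rees.FibreMonoEpi.one_tmul_eq_zero_iff N hs (v a)).2 ha

theorem flat_quot_of_split (l : N →ₗ[R] M) (hl : l ∘ₗ v = LinearMap.id) :
    Module.Flat R (N ⧸ LinearMap.range v) := by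
  refine Module.Flat.of_retract ((LinearMap.range v).liftQ (LinearMap.id - v ∘ₗ l) ?_) (LinearMap.range v).mkQ ?_
  · rintro _ ⟨a, rfl⟩
    have : l (v a) = a := LinearMap.congr_fun hl a
    simp [this]
  · refine Submodule.linearMap_qext _ (LinearMap.ext fun b => ?_)
    simp

end Alg

variable {S : Scheme.{u}}

/-- The residue field map on the stalk. -/
theorem stalkMap_residue (s : S) (z : Spec (S.residueField s)) :
    Function.Surjective ((S.fromSpecResidueField s).stalkMap z).hom ∧
      RingHom.ker ((S.fromSpecResidueField s).stalkMap z).hom =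
        maximalIdeal (S.presheaf.stalk (S.fromSpecResidueField s z)) := by
  refine ⟨(S.fromSpecResidueField s).stalkMap_surjective z, ?_⟩
  have hF := Groth.L18.NegVanish.isField_stalk_specField (k := S.residueField s) z
  refine le_antisymm (le_maximalIdeal (RingHom.ker_ne_top _)) fun a ha => ?_
  rw [RingHom.mem_ker]
  by_contra hne
  obtain ⟨b, hb⟩ := hF.mul_inv_cancel hne
  exact (mem_maximalIdeal _).1 ha (isUnit_of_map_unit ((S.fromSpecResidueField s).stalkMap z).hom a
    ⟨⟨_, b, hb, (mul_comm _ _).trans hb⟩, rfl⟩)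

variable {U E : S.Modules} (ι : U ⟶ E)

theorem mono_pullback_of_split (hsplit : ∀ x : S, ∃ l : E.presheaf.stalk x →ₗ[S.presheaf.stalk x] U.presheaf.stalk x,
      l ∘ₗ (show U.presheaf.stalk x →ₗ[S.presheaf.stalk x] E.presheaf.stalk x from
        ((Groth.L00.Stk.F S x).map ι).hom) = LinearMap.id) (T : Scheme.{u}) (f : T ⟶ S) :
    Mono ((Scheme.Modules.pullback f).map ι) := by
  refine (Groth.L21.Mod.mono_iff_stalk_injective _).2 fun z => ?_
  rw [Groth.L16.Rees.FibreMonoEpi.stk_map_eq, (Groth.L16.Rees.FibreMonoEpi.baseChange_stalk f ι z).1]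
  letI : Algebra (S.presheaf.stalk (f z)) (T.presheaf.stalk z) := (f.stalkMap z).hom.toAlgebra
  obtain ⟨l, hl⟩ := hsplit (f z)
  refine Function.LeftInverse.injective (g := l.baseChange (T.presheaf.stalk z)) fun w => ?_
  induction w using TensorProduct.induction_on with
  | zero => rw [map_zero, map_zero]
  | tmul a b => exact congrArg (a ⊗ₜ[S.presheaf.stalk (f z)] ·) (LinearMap.congr_fun hl b)
  | add a b ha hb => exact (congrArg _ (map_add _ a b)).trans ((map_add _ _ _).trans (congrArg₂ (· + ·) ha hb))

variable (hU : CohB1.IsFT U) (hE : FlatMod.IsFinLocFree E)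

include hU hE in
theorem exists_split_stalk (h : ∀ s : S, Mono ((Scheme.Modules.pullback (S.fromSpecResidueField s)).map ι)) (x : S) :
    ∃ l : E.presheaf.stalk x →ₗ[S.presheaf.stalk x] U.presheaf.stalk x,
      l ∘ₗ (show U.presheaf.stalk x →ₗ[S.presheaf.stalk x] E.presheaf.stalk x from
        ((Groth.L00.Stk.F S x).map ι).hom) = LinearMap.id := by
  let g := S.fromSpecResidueField x
  haveI := h x
  obtain ⟨z⟩ : Nonempty (Spec (S.residueField x)) := inferInstance
  have hz : g z = x := Scheme.fromSpecResidueField_apply x z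
  have key : ∀ y : S, y = x → (∃ l : E.presheaf.stalk y →ₗ[S.presheaf.stalk y] U.presheaf.stalk y,
      l ∘ₗ (show U.presheaf.stalk y →ₗ[S.presheaf.stalk y] E.presheaf.stalk y from
        ((Groth.L00.Stk.F S y).map ι).hom) = LinearMap.id) →
      ∃ l : E.presheaf.stalk x →ₗ[S.presheaf.stalk x] U.presheaf.stalk x,
      l ∘ₗ (show U.presheaf.stalk x →ₗ[S.presheaf.stalk x] E.presheaf.stalk x from
        ((Groth.L00.Stk.F S x).map ι).hom) = LinearMap.id := by rintro y rfl hy; exact hy
  refine key _ hz ?_
  letI : Algebra (S.presheaf.stalk (g z)) ((Spec (S.residueField x)).presheaf.stalk z) := (g.stalkMap z).hom.toAlgebra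
  haveI := Groth.Agent.S9837.finite_stalk_of_isFT U hU (g z)
  haveI : Module.Finite (S.presheaf.stalk (g z)) (E.presheaf.stalk (g z)) :=
    Groth.L18.LFP.finite_stalk E (Groth.L18.LFP.isFP_of_isFinLocFree E hE) (g z)
  haveI : Module.Free (S.presheaf.stalk (g z)) (E.presheaf.stalk (g z)) :=
    Groth.L18.LFP.free_stalk E hE (g z)
  refine exists_split _ ((Spec (S.residueField x)).presheaf.stalk z) (stalkMap_residue x z).1 (stalkMap_residue x z).2 ?_
  exact (Groth.L16.Rees.FibreMonoEpi.baseChange_stalk g ι z).1.1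
    ((Groth.L21.Mod.mono_iff_stalk_injective _).1 inferInstance z)

include hU hE in
/-- Fibrewise injective: a monomorphism with finite locally free cokernel. -/
theorem mono_and_cokernel (h : ∀ s : S, Mono ((Scheme.Modules.pullback (S.fromSpecResidueField s)).map ι)) :
    Mono ι ∧ FlatMod.IsFinLocFree (cokernel ι) := by
  have hs := exists_split_stalk ι hU hE h
  refine ⟨(Groth.L21.Mod.mono_iff_stalk_injective _).2 fun x => ?_, ?_⟩
  · obtain ⟨l, hl⟩ := hs x
    rw [Groth.L16.Rees.FibreMonoEpi.stk_map_eq]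
    exact Function.LeftInverse.injective (g := l) fun a => LinearMap.congr_fun hl a
  have hflat : FlatMod.IsFlat (cokernel ι) := fun x => by
    let F := Groth.L00.Stk.F S x
    haveI : Module.Finite (S.presheaf.stalk x) (U.presheaf.stalk x) := Groth.Agent.S9837.finite_stalk_of_isFT U hU x
    haveI : Module.Finite (S.presheaf.stalk x) (E.presheaf.stalk x) := Groth.L18.LFP.finite_stalk E (Groth.L18.LFP.isFP_of_isFinLocFree E hE) x
    haveI : Module.Free (S.presheaf.stalk x) (E.presheaf.stalk x) := Groth.L18.LFP.free_stalk E hE x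
    obtain ⟨l, hl⟩ := hs x
    haveI : Module.Flat (S.presheaf.stalk x) (E.presheaf.stalk x ⧸ LinearMap.range
        (show U.presheaf.stalk x →ₗ[S.presheaf.stalk x] E.presheaf.stalk x from (F.map ι).hom)) :=
      flat_quot_of_split _ l hl
    exact Module.Flat.of_linearEquiv
      ((PreservesCokernel.iso F ι) ≪≫ ModuleCat.cokernelIsoRangeQuotient _).toLinearEquiv
  refine Groth.L29.DC.isFinLocFree_of_local fun x => ?_
  obtain ⟨W, σ, hxW, hσ⟩ := Groth.L00.Local.exists_generators_of_isFT U hU x
  haveI := hσ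
  let R := Scheme.Modules.restrictFunctor W.ι
  let π : FlatMod.freeMod (W : Scheme.{u}) (Nat.card σ.I) ⟶ R.obj U :=
    (Groth.L18.LFP.freeIso _ σ.I).inv ≫ σ.π
  haveI : Epi σ.π := σ.epi
  haveI : Epi π := inferInstance
  refine ⟨W, hxW, ?_⟩
  let e : R.obj (cokernel ι) ≅ cokernel (π ≫ R.map ι) :=
    PreservesCokernel.iso R ι ≪≫ (cokernelEpiComp π (R.map ι)).symm
  refine Groth.L29.LocFree.of_iso e.symm (Groth.L29.DC.Fib.isFinLocFree_cokernel
    (Groth.L29.DC.isFinLocFree_freeMod _ _) (Groth.L29.LocFree.of_iso ((Scheme.Modules.restrictFunctorIsoPullback W.ι).app E).symm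
      (Groth.L29.LocFree.pullback W.ι hE)) _ ?_)
  exact Groth.L00.KFlat.isFlat_of_iso (((Scheme.Modules.restrictFunctorIsoPullback W.ι).app _).symm ≪≫ e)
    (Groth.L00.TorAmp.isFlat_pullback W.ι hflat)

include hE in
theorem exists_split_of_cokernel [Mono ι] (hc : FlatMod.IsFinLocFree (cokernel ι)) (x : S) :
    ∃ l : E.presheaf.stalk x →ₗ[S.presheaf.stalk x] U.presheaf.stalk x,
      l ∘ₗ (show U.presheaf.stalk x →ₗ[S.presheaf.stalk x] E.presheaf.stalk x from
        ((Groth.L00.Stk.F S x).map ι).hom) = LinearMap.id := by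
  let F := Groth.L00.Stk.F S x
  let v : U.presheaf.stalk x →ₗ[S.presheaf.stalk x] E.presheaf.stalk x := (F.map ι).hom
  have hv : Function.Injective v := (Groth.L21.Mod.mono_iff_stalk_injective _).1 inferInstance x
  haveI : Module.Free (S.presheaf.stalk x) (F.obj (cokernel ι)) := Groth.L18.LFP.free_stalk _ hc x
  haveI : Module.Projective (S.presheaf.stalk x) (E.presheaf.stalk x ⧸ LinearMap.range v) :=
    Module.Projective.of_equiv ((PreservesCokernel.iso F ι) ≪≫ ModuleCat.cokernelIsoRangeQuotient _).toLinearEquiv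
  obtain ⟨t, ht⟩ := Module.projective_lifting_property (LinearMap.range v).mkQ LinearMap.id (Submodule.mkQ_surjective _)
  have hmem : ∀ b, (LinearMap.id (R := S.presheaf.stalk x) (M := E.presheaf.stalk x) - t ∘ₗ (LinearMap.range v).mkQ) b ∈ LinearMap.range v := fun b => by
    rw [← Submodule.Quotient.mk_eq_zero]
    show (LinearMap.range v).mkQ (b - t ((LinearMap.range v).mkQ b)) = 0
    have h1 := LinearMap.congr_fun ht ((LinearMap.range v).mkQ b)
    simp only [LinearMap.comp_apply, LinearMap.id_apply] at h1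
    rw [map_sub, h1, sub_self]
  refine ⟨(LinearEquiv.ofInjective v hv).symm.toLinearMap ∘ₗ
    LinearMap.codRestrict _ (LinearMap.id - t ∘ₗ (LinearMap.range v).mkQ) hmem, LinearMap.ext fun a => ?_⟩
  apply (LinearEquiv.ofInjective v hv).injective
  refine ((LinearEquiv.ofInjective v hv).apply_symm_apply _).trans (Subtype.ext ?_)
  show v a - t ((LinearMap.range v).mkQ (v a)) = v a
  rw [Submodule.mkQ_apply, (Submodule.Quotient.mk_eq_zero (LinearMap.range v)).2 ⟨a, rfl⟩, map_zero, sub_zero]

include hU hE in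
/-- The equivalent conditions. -/
theorem main :
    ((Mono ι ∧ FlatMod.IsFinLocFree (cokernel ι)) ↔
        ∀ (T : Scheme.{u}) (f : T ⟶ S), Mono ((Scheme.Modules.pullback f).map ι)) ∧
      ((∀ (T : Scheme.{u}) (f : T ⟶ S), Mono ((Scheme.Modules.pullback f).map ι)) ↔
        ∀ s : S, Mono ((Scheme.Modules.pullback (S.fromSpecResidueField s)).map ι)) := by
  have h12 : Mono ι ∧ FlatMod.IsFinLocFree (cokernel ι) →
      ∀ (T : Scheme.{u}) (f : T ⟶ S), Mono ((Scheme.Modules.pullback f).map ι) := fun ⟨hm, hc⟩ =>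
    haveI := hm
    mono_pullback_of_split ι (exists_split_of_cokernel ι hE hc)
  have h31 := mono_and_cokernel ι hU hE
  exact ⟨⟨h12, fun h => h31 fun s => h _ _⟩, ⟨fun h s => h _ _, fun h => h12 (h31 h)⟩⟩

end Groth.L16.FibreSplit
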