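import Groth.Agent.L16.Jets.Crit
import Groth.Agent.L15.Ref.Tensor

/-!
# Jets of tensor products
-/

set_option autoImplicit false
set_option linter.style.haveILetI false
set_option linter.unusedSectionVars false
set_option backward.isDefEq.respectTransparency false
set_option backward.isDefEq.respectTransparency.types false

universe u v

open CategoryTheory CategoryTheory.Limits AlgebraicGeometry TopologicalSpace Opposite IsLocalRing
open Groth.L18.GenLoc (tens)

noncomputable section

namespace Groth.L16.Jets

/-- Products of elements which are dense up to the given orders are dense up to the sum of the orders. -/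
theorem bilin_dense {R : Type*} [CommRing R] {M N T : Type*} [AddCommGroup M] [Module R M] [AddCommGroup N]
    [Module R N] [AddCommGroup T] [Module R T] (B : M →ₗ[R] N →ₗ[R] T)
    (hB : Submodule.span R (Set.range fun p : M × N => B p.1 p.2) = ⊤) (P : Ideal R)
    (A : Set M) (A' : Set N) (S : AddSubgroup T) (hS : ∀ a ∈ A, ∀ b ∈ A', B a b ∈ S) (i j : ℕ)
    (hA : ∀ v : M, ∃ a ∈ A, a - v ∈ P ^ (i + 1) • (⊤ : Submodule R M))
    (hA' : ∀ w : N, ∃ b ∈ A', b - w ∈ P ^ (j + 1) • (⊤ : Submodule R N)) (t : T) :
    ∃ s ∈ S, s - t ∈ P ^ (i + j + 1) • (⊤ : Submodule R T) := by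
  have hmul : ∀ {c d e : ℕ}, e ≤ c + d → ∀ x ∈ P ^ c • (⊤ : Submodule R M), ∀ y ∈ P ^ d • (⊤ : Submodule R N),
      B x y ∈ P ^ e • (⊤ : Submodule R T) := by
    intro c d e he x hx y hy
    refine Submodule.smul_mono_left (Ideal.pow_le_pow_right he) ?_
    induction hx using Submodule.smul_induction_on' with
    | smul r hr m hm =>
      induction hy using Submodule.smul_induction_on' with
      | smul r' hr' n hn =>
        rw [LinearMap.map_smul₂, map_smul, smul_smul, pow_add]
        exact Submodule.smul_mem_smul (Ideal.mul_mem_mul hr hr') Submodule.mem_top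
      | add y₁ _ y₂ _ h₁ h₂ => rw [map_add]; exact Submodule.add_mem _ h₁ h₂
    | add x₁ _ x₂ _ h₁ h₂ => rw [map_add, LinearMap.add_apply]; exact Submodule.add_mem _ h₁ h₂
  have step : ∀ n, n ≤ i + j → ∀ t ∈ P ^ n • (⊤ : Submodule R T),
      ∃ s ∈ S, s - t ∈ P ^ (n + 1) • (⊤ : Submodule R T) := by
    intro n hn t ht
    let U : AddSubgroup T := S ⊔ (P ^ (n + 1) • (⊤ : Submodule R T)).toAddSubgroup
    suffices t ∈ U by
      obtain ⟨s, hs, e, he, rfl⟩ := AddSubgroup.mem_sup.1 this
      exact ⟨s, hs, by rw [sub_add_cancel_left]; exact Submodule.neg_mem _ he⟩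
    have hpair : ∀ r ∈ P ^ n, ∀ (m : M) (w : N), r • B m w ∈ U := by
      intro r hr m w
      rw [show P ^ n = P ^ min n i * P ^ (n - min n i) by rw [← pow_add]; congr 1; omega] at hr
      refine Submodule.mul_induction_on hr (fun p hp q hq => ?_) (fun a b ha hb => by rw [add_smul]; exact add_mem ha hb)
      obtain ⟨a, haA, ha⟩ := hA (p • m)
      obtain ⟨b, hbA, hb⟩ := hA' (q • w)
      have hpm : p • m ∈ P ^ min n i • (⊤ : Submodule R M) := Submodule.smul_mem_smul hp Submodule.mem_top
      have hqw : q • w ∈ P ^ (n - min n i) • (⊤ : Submodule R N) := Submodule.smul_mem_smul hq Submodule.mem_top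
      have he : (p * q) • B m w - B a b = - (B (a - p • m) (q • w) + B a (b - q • w)) := by
        simp only [map_sub, LinearMap.sub_apply, map_smul, LinearMap.smul_apply]
        module
      have ha' : a ∈ P ^ min n i • (⊤ : Submodule R M) := by
        rw [show a = (a - p • m) + p • m by abel]
        exact Submodule.add_mem _ (Submodule.smul_mono_left (Ideal.pow_le_pow_right (by omega)) ha) hpm
      rw [show (p * q) • B m w = B a b + ((p * q) • B m w - B a b) by abel]
      refine add_mem (AddSubgroup.mem_sup_left (hS a haA b hbA)) (AddSubgroup.mem_sup_right ?_)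
      rw [he]
      exact Submodule.neg_mem _ (Submodule.add_mem _ (hmul (by omega) _ ha _ hqw) (hmul (by omega) _ ha' _ hb))
    induction ht using Submodule.smul_induction_on' with
    | smul r hr x hx =>
      have h : x ∈ Submodule.span R (Set.range fun p : M × N => B p.1 p.2) := hB.ge Submodule.mem_top
      induction h using Submodule.span_induction generalizing r with
      | mem y hy => obtain ⟨⟨m, w⟩, rfl⟩ := hy; exact hpair r hr m w
      | zero => rw [smul_zero]; exact U.zero_mem
      | add y z _ _ hy hz => rw [smul_add]; exact U.add_mem (hy r hr Submodule.mem_top) (hz r hr Submodule.mem_top)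
      | smul c y _ hy => rw [smul_smul]; exact hy (r * c) (Ideal.mul_mem_right _ _ hr) Submodule.mem_top
    | add x _ y _ hx hy => exact U.add_mem hx hy
  have main : ∀ n, n ≤ i + j + 1 → ∃ s ∈ S, s - t ∈ P ^ n • (⊤ : Submodule R T) := by
    intro n hn
    induction n with
    | zero => exact ⟨0, S.zero_mem, by rw [pow_zero, Ideal.one_eq_top, Submodule.top_smul]; exact Submodule.mem_top⟩
    | succ n ih =>
      obtain ⟨s, hs, h⟩ := ih (by omega)
      obtain ⟨s', hs', h'⟩ := step n (by omega) _ h
      exact ⟨s - s', S.sub_mem hs hs', by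
        rw [show s - s' - t = -(s' - (s - t)) by abel]; exact Submodule.neg_mem _ h'⟩
  exact main _ le_rfl

/-- Tensor products separate the sum of the jets. -/
theorem separatesJets_tensorMod {X : Scheme.{u}} {x : X} (hx : IsClosed ({x} : Set X)) (F G : X.Modules) (i j : ℕ)
    (hi : W4c2seshadripos.SeparatesJets F x hx i) (hj : W4c2seshadripos.SeparatesJets G x hx j) :
    W4c2seshadripos.SeparatesJets (CohB1.tensorMod F G) x hx (i + j) := by
  rw [separatesJets_iff] at hi hj ⊢
  intro t
  obtain ⟨_, ⟨s, rfl⟩, hs⟩ := bilin_dense (Groth.L15.Ref.tst F G x) (by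
      refine Submodule.eq_top_iff'.2 fun y => ?_
      obtain ⟨p, rfl⟩ := (Groth.L15.Ref.τE F G x).surjective y
      induction p using TensorProduct.induction_on with
      | zero => rw [map_zero]; exact zero_mem _
      | tmul m n => exact Submodule.subset_span ⟨(m, n), rfl⟩
      | add p q hp hq => rw [map_add]; exact add_mem hp hq)
    (maximalIdeal (X.presheaf.stalk x))
    (Set.range (F.presheaf.germ ⊤ x trivial)) (Set.range (G.presheaf.germ ⊤ x trivial))
    ((CohB1.tensorMod F G).presheaf.germ ⊤ x trivial).hom.range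
    (by
      rintro _ ⟨a, rfl⟩ _ ⟨b, rfl⟩
      exact ⟨tens F G ⊤ a b, (Groth.L15.Ref.tst_germ (U := ⊤) trivial a b).symm⟩)
    i j
    (fun v => by obtain ⟨s, hs⟩ := hi v; exact ⟨_, ⟨s, rfl⟩, hs⟩)
    (fun v => by obtain ⟨s, hs⟩ := hj v; exact ⟨_, ⟨s, rfl⟩, hs⟩) t
  exact ⟨s, hs⟩

end Groth.L16.Jets
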